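import Mathlib
import Cfsg.Agent.H150.FarOrthEven
import Cfsg.Agent.H301.SY.Base

/-!
# `PΩ⁻_{2m}(q)`: elements whose centralizer has order prime to the characteristic (helper491, for S3846)
-/

set_option autoImplicit false
set_option linter.unusedSectionVars false

namespace Cfsg.Agent.H491.SY

open Module Cfsg Cfsg.Agent.H150
open Cfsg.Agent.LieClassical.OrthCount Cfsg.Agent.LieClassical.OmegaReindex
open Cfsg.Agent.H377

universe u

variable {F : Type u} [Field F]

/-- commuting isometries from an element of order `r w` of `PΩ(Q)` -/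
theorem pomega_pair {ι : Type} [Fintype ι] [DecidableEq ι] [Finite F] (Q : QuadraticForm F (ι → F))
    (hQ : (QuadraticMap.polarBilin Q).Nondegenerate)
    (hn : 3 ≤ Fintype.card ι) (hs : ∃ u : ι → F, u ≠ 0 ∧ Q u = 0) {w r : ℕ} (hw : w.Prime) (hw2 : w ≠ 2)
    (hr : r.Prime) (hr2 : r ≠ 2) (hwr : w ≠ r) {g : POmega F (⇑Q)} (hg : orderOf g = r * w) :
    ∃ X Y : OG Q, X * Y = Y * X ∧ X ^ w = 1 ∧ X ≠ 1 ∧ Y ^ r = 1 ∧ Y ≠ 1 := by
  obtain ⟨T, rfl⟩ := QuotientGroup.mk_surjective g
  have hTj : ∀ j, ((∀ v, ((isometryGroupEquiv Q T.1 ^ j : OG Q) : (ι → F) ≃ₗ[F] (ι → F)) v = v) ∨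
      (∀ v, ((isometryGroupEquiv Q T.1 ^ j : OG Q) : (ι → F) ≃ₗ[F] (ι → F)) v = -v)) ↔ r * w ∣ j := by
    intro j
    rw [← hg, orderOf_dvd_iff_pow_eq_one, ← QuotientGroup.mk_pow, QuotientGroup.eq_one_iff,
      Cfsg.Agent.LieClassical.OrthCenter.mem_center_omega_iff hQ hn hs]
    have e : (((T ^ j : Omega F (⇑Q)) : isometryGroup F (⇑Q)) : Matrix.GeneralLinearGroup ι F) =
        ((T.1 ^ j : isometryGroup F (⇑Q)) : Matrix.GeneralLinearGroup ι F) := by
      rw [SubgroupClass.coe_pow]
    rw [e]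
    constructor
    · rintro (h1 | h1)
      · left
        apply Matrix.mulVec_injective
        funext v
        rw [← coe_pow_matrix, h1, Matrix.one_mulVec]
      · right
        apply Matrix.mulVec_injective
        funext v
        rw [← coe_pow_matrix, h1, Matrix.neg_mulVec, Matrix.one_mulVec]
    · rintro (h1 | h1)
      · left
        intro v
        rw [coe_pow_matrix, h1, Matrix.one_mulVec]
      · right
        intro v
        rw [coe_pow_matrix, h1, Matrix.neg_mulVec, Matrix.one_mulVec]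
  generalize isometryGroupEquiv Q T.1 = S at hTj
  have h1 := (hTj (r * w)).2 dvd_rfl
  have hmul : ∀ (a b : ℕ) (v : ι → F), ((S ^ (a + b) : OG Q) : (ι → F) ≃ₗ[F] (ι → F)) v =
      ((S ^ a : OG Q) : (ι → F) ≃ₗ[F] (ι → F)) (((S ^ b : OG Q) : (ι → F) ≃ₗ[F] (ι → F)) v) := by
    intro a b v
    rw [pow_add]
    rfl
  have h4r : S ^ (2 * (r * w)) = 1 := by
    have e : 2 * (r * w) = r * w + r * w := by ring
    apply Subtype.ext
    apply LinearEquiv.ext
    intro v
    rw [e, hmul]
    rcases h1 with h1 | h1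
    · rw [h1, h1]; rfl
    · rw [h1, h1, neg_neg]; rfl
  refine ⟨S ^ (2 * r), S ^ (2 * w), ?_, ?_, ?_, ?_, ?_⟩
  · rw [← pow_add, ← pow_add, add_comm]
  · rw [← pow_mul, mul_assoc, h4r]
  · intro h2
    have h3 := (hTj (2 * r)).1 (Or.inl fun v => by rw [h2]; rfl)
    have h4 : w ∣ 2 * r := (Dvd.intro_left _ rfl).trans h3
    rcases hw.dvd_mul.1 h4 with h5 | h5
    · exact hw2 ((Nat.prime_dvd_prime_iff_eq hw Nat.prime_two).1 h5)
    · exact hwr ((Nat.prime_dvd_prime_iff_eq hw hr).1 h5)
  · rw [← pow_mul, mul_assoc, mul_comm w r, h4r]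
  · intro h2
    have h3 := (hTj (2 * w)).1 (Or.inl fun v => by rw [h2]; rfl)
    have h4 : r ∣ 2 * w := (Dvd.intro _ rfl).trans h3
    rcases hr.dvd_mul.1 h4 with h5 | h5
    · exact hr2 ((Nat.prime_dvd_prime_iff_eq hr Nat.prime_two).1 h5)
    · exact hwr ((Nat.prime_dvd_prime_iff_eq hr hw).1 h5).symm

/-- a unipotent isometry of a nondegenerate plane in odd characteristic is trivial -/
theorem plane_unip {V : Type*} [AddCommGroup V] [Module F V] [FiniteDimensional F V] (h2 : (2 : F) ≠ 0)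
    (Q : QuadraticForm F V) {C : Submodule F V} (hC : finrank F C ≤ 2)
    (hnd : ∀ u ∈ C, (∀ v ∈ C, QuadraticMap.polar Q u v = 0) → u = 0) {y : V →ₗ[F] V} (hyC : ∀ v ∈ C, y v ∈ C)
    (hyQ : ∀ v, Q (y v) = Q v) (hN : IsNilpotent (y - 1)) : ∀ v ∈ C, y v = v := by
  by_contra hcon
  push Not at hcon
  obtain ⟨v, hv, hyv⟩ := hcon
  set N := y - 1 with hNdef
  have hNC : ∀ u ∈ C, N u ∈ C := fun u hu => C.sub_mem (hyC u hu) hu
  -- a fixed vector
  obtain ⟨c, hc, hc0, hNc⟩ := exists_ker_of_isNilpotent N hN C hNC (by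
    rw [Submodule.ne_bot_iff]
    refine ⟨v, hv, fun h => hyv ?_⟩
    rw [h, map_zero])
  have hyc : y c = c := by
    have h1 : y c - c = 0 := hNc
    exact sub_eq_zero.1 h1
  have hNv : N v ≠ 0 := fun h => hyv (sub_eq_zero.1 h)
  have hli : LinearIndependent F ![(⟨c, hc⟩ : C), ⟨v, hv⟩] := by
    rw [LinearIndependent.pair_iff]
    intro a b hab
    have h1 : a • c + b • v = 0 := congrArg Subtype.val hab
    have h3 : b • N v = 0 := by
      have := congrArg N h1
      rw [map_add, map_smul, map_smul, hNc, smul_zero, zero_add, map_zero] at this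
      exact this
    have hb : b = 0 := (smul_eq_zero.1 h3).resolve_right hNv
    rw [hb, zero_smul, add_zero] at h1
    exact ⟨(smul_eq_zero.1 h1).resolve_right hc0, hb⟩
  have hcard : Fintype.card (Fin 2) = finrank F C := by
    have := hli.fintype_card_le_finrank
    rw [Fintype.card_fin] at this ⊢
    omega
  have hspan := hli.span_eq_top_of_card_eq_finrank' hcard
  have hsp : ∀ u ∈ C, ∃ a b : F, u = a • c + b • v := by
    intro u hu
    have h1 : (⟨u, hu⟩ : C) ∈ Submodule.span F (Set.range ![(⟨c, hc⟩ : C), ⟨v, hv⟩]) := by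
      rw [hspan]; exact Submodule.mem_top
    rw [Matrix.range_cons, Matrix.range_cons, Matrix.range_empty, Set.union_empty, Set.singleton_union,
      Submodule.mem_span_pair] at h1
    obtain ⟨a, b, h1⟩ := h1
    exact ⟨a, b, (congrArg Subtype.val h1).symm⟩
  have hpol := polar_isom Q y hyQ
  -- `N v` is orthogonal to `c`
  have h3 : QuadraticMap.polar Q c (N v) = 0 := by
    have h4 := hpol c v
    rw [hyc] at h4
    have e : y v = N v + v := by rw [hNdef, LinearMap.sub_apply, Module.End.one_apply, sub_add_cancel]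
    rw [e, QuadraticMap.polar_add_right] at h4
    exact add_eq_right.1 h4
  obtain ⟨a, b, hab⟩ := hsp (N v) (hNC v hv)
  -- `N v` is a multiple of `c`
  have hb : b = 0 := by
    by_contra hb
    obtain ⟨n, hn⟩ := hN
    have hk : ∀ k : ℕ, ∃ a' : F, (N ^ k) v = a' • c + b ^ k • v := by
      intro k
      induction k with
      | zero => exact ⟨0, by simp⟩
      | succ k ih =>
        obtain ⟨a', ha'⟩ := ih
        refine ⟨b ^ k * a, ?_⟩
        rw [pow_succ', Module.End.mul_apply, ha', map_add, map_smul, map_smul, hNc, hab, smul_zero, zero_add,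
          smul_add, smul_smul, smul_smul, pow_succ]
    obtain ⟨a', ha'⟩ := hk n
    rw [hn, LinearMap.zero_apply] at ha'
    have h5 := LinearIndependent.pair_iff.1 hli a' (b ^ n) (Subtype.ext ha'.symm)
    exact hb ((pow_eq_zero_iff (n := n + 1) (by omega)).1 (by rw [pow_succ, h5.2, zero_mul]))
  rw [hb, zero_smul, add_zero] at hab
  have ha0 : a ≠ 0 := by
    rintro rfl
    rw [zero_smul] at hab
    exact hNv hab
  have hyv' : y v = v + a • c := by
    have : y v - v = a • c := hab
    rw [← this]; abel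
  -- `c` is orthogonal to itself
  have hcc : QuadraticMap.polar Q c c = 0 := by
    rw [hab, QuadraticMap.polar_smul_right, smul_eq_mul] at h3
    exact (mul_eq_zero.1 h3).resolve_left ha0
  have hQc : Q c = 0 := by
    rw [QuadraticMap.polar_self, two_nsmul, ← two_mul] at hcc
    exact (mul_eq_zero.1 hcc).resolve_left h2
  have hcv : QuadraticMap.polar Q c v = 0 := by
    have h4 := hyQ v
    have h5 : Q (v + a • c) = Q v + Q (a • c) + QuadraticMap.polar Q v (a • c) := by
      unfold QuadraticMap.polar; ring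
    rw [hyv', h5, QuadraticMap.map_smul, hQc, smul_zero, add_zero, QuadraticMap.polar_smul_right, smul_eq_mul] at h4
    have h6 := add_eq_left.1 h4
    rw [QuadraticMap.polar_comm]
    exact (mul_eq_zero.1 h6).resolve_left ha0
  apply hc0
  apply hnd c hc
  intro u hu
  obtain ⟨a', b', rfl⟩ := hsp u hu
  rw [QuadraticMap.polar_add_right, QuadraticMap.polar_smul_right, QuadraticMap.polar_smul_right, hcc, hcv, smul_zero,
    smul_zero, add_zero]

/-- **no elements of order `r w`**, `r` the odd characteristic, `ord_w (q) = 2 (n - 1)` -/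
theorem gen_partial_char {ι : Type} [Fintype ι] [DecidableEq ι] [Finite F] (Q : QuadraticForm F (ι → F))
    (hQ : (QuadraticMap.polarBilin Q).Nondegenerate) {n : ℕ} (hdim : finrank F (ι → F) = 2 * n)
    (hs : ∃ u : ι → F, u ≠ 0 ∧ Q u = 0) {w r : ℕ} (hw : w.Prime) (hw2 : w ≠ 2) (hwF : (w : F) ≠ 0)
    (hr : r.Prime) (hr2 : r ≠ 2) [hcr : CharP F r] (hn : 4 ≤ n)
    (hk : orderOf ((Nat.card F : ℕ) : ZMod w) = 2 * (n - 1)) (g : POmega F (⇑Q)) : orderOf g ≠ r * w := by
  intro hg
  have hι : Fintype.card ι = 2 * n := by rw [← hdim]; simp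
  have hr0 : (r : F) = 0 := CharP.cast_eq_zero F r
  have hwr : w ≠ r := by
    rintro rfl
    exact hwF hr0
  have h2 : (2 : F) ≠ 0 := by
    intro h
    have h1 : r ∣ 2 := (CharP.cast_eq_zero_iff F r 2).1 (by exact_mod_cast h)
    exact hr2 ((Nat.prime_dvd_prime_iff_eq hr Nat.prime_two).1 h1)
  obtain ⟨X, Y, hXY, hXw, hX1, hYr, hY1⟩ := pomega_pair Q hQ (by omega) hs hw hw2 hr hr2 hwr hg
  set x : (ι → F) →ₗ[F] (ι → F) := ((X : (ι → F) ≃ₗ[F] (ι → F)) : (ι → F) →ₗ[F] (ι → F)) with hx
  set y : (ι → F) →ₗ[F] (ι → F) := ((Y : (ι → F) ≃ₗ[F] (ι → F)) : (ι → F) →ₗ[F] (ι → F)) with hy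
  have hxy : ∀ v, x (y v) = y (x v) := fun v =>
    congrArg (fun Z : OG Q => (Z : (ι → F) ≃ₗ[F] (ι → F)) v) hXY
  have hxw : x ^ w = 1 := (og_pow_eq_one_iff X x (fun _ => rfl) w).1 hXw
  have hyr : y ^ r = 1 := (og_pow_eq_one_iff Y y (fun _ => rfl) r).1 hYr
  have hx1 : x ≠ 1 := by
    intro h
    apply hX1
    rw [← pow_one X, og_pow_eq_one_iff X x (fun _ => rfl), pow_one, h]
  have hy1 : y ≠ 1 := by
    intro h
    apply hY1
    rw [← pow_one Y, og_pow_eq_one_iff Y y (fun _ => rfl), pow_one, h]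
  have hnd : ND Q := fun u hu => hQ.1 u hu
  have hB : ∀ v w, QuadraticMap.polarBilin Q (x v) (x w) = QuadraticMap.polarBilin Q v w :=
    fun v w => polar_isom Q x X.2 v w
  -- `y` is unipotent
  have hnil : IsNilpotent (y - 1) := by
    refine ⟨r, ?_⟩
    have : ExpChar (Module.End F (ι → F)) r := by
      have : CharP (Module.End F (ι → F)) r := by
        have : Nonempty ι := Fintype.card_pos_iff.1 (by omega)
        have : Nontrivial (ι → F) := inferInstance
        exact charP_of_injective_algebraMap (R := F) (FaithfulSMul.algebraMap_injective F (Module.End F (ι → F))) r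
      exact ExpChar.prime hr
    rw [sub_pow_expChar_of_commute r (Commute.one_right y), hyr, one_pow, sub_self]
  have hcompl := isCompl_fix hwF x hxw
  have hsum := Submodule.finrank_add_eq_of_isCompl hcompl
  have hxM := (range_inv (x := x) (y := x) (fun v => rfl)).1
  have hyM := (range_inv hxy).1
  have hyC := (range_inv hxy).2
  have hfpf := fpf_range hwF x hxw
  have hkd := dvd_finrank_of_fpf_submodule hw x hxw _ hxM hfpf
  rw [hk] at hkd
  have hM0 : LinearMap.range (x - 1) ≠ ⊥ := by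
    intro h
    rw [LinearMap.range_eq_bot, sub_eq_zero] at h
    exact hx1 h
  have hMpos : 0 < finrank F (LinearMap.range (x - 1)) := Nat.pos_of_ne_zero fun h =>
    hM0 (Submodule.finrank_eq_zero.1 h)
  have hMle := Submodule.finrank_le (LinearMap.range (x - 1))
  have hMdim : finrank F (LinearMap.range (x - 1)) = 2 * (n - 1) := by
    obtain ⟨c, hc⟩ := hkd
    have hc1 : c = 1 := by
      have h3 : 0 < c := by
        rcases Nat.eq_zero_or_pos c with h | h
        · rw [h, mul_zero] at hc; omega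
        · exact h
      by_contra hne
      have h4 : 2 ≤ c := by omega
      have h5 : 2 * (n - 1) * 2 ≤ 2 * (n - 1) * c := Nat.mul_le_mul_left _ h4
      omega
    rw [hc, hc1, mul_one]
  -- `y = 1` on `M`
  have hNM : ∀ v ∈ LinearMap.range (x - 1), (y - 1) v ∈ LinearMap.range (x - 1) := fun v hv =>
    Submodule.sub_mem _ (hyM v hv) hv
  have hyM1 : ∀ v ∈ LinearMap.range (x - 1), y v = v := by
    obtain ⟨c, hc, hc0, hNc⟩ := exists_ker_of_isNilpotent (y - 1) hnil _ hNM hM0
    have hKinv : ∀ v ∈ LinearMap.ker (y - 1) ⊓ LinearMap.range (x - 1),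
        x v ∈ LinearMap.ker (y - 1) ⊓ LinearMap.range (x - 1) := by
      rintro v ⟨h1, h3⟩
      refine ⟨?_, hxM v h3⟩
      have h1' : y v - v = 0 := h1
      show y (x v) - x v = 0
      rw [← hxy, ← map_sub, h1', map_zero]
    have h3 := dvd_finrank_of_fpf_submodule hw x hxw _ hKinv (fun v hv => hfpf v hv.2)
    rw [hk] at h3
    have h4 : 0 < finrank F ↥(LinearMap.ker (y - 1) ⊓ LinearMap.range (x - 1)) := by
      rw [Module.finrank_pos_iff]
      refine Submodule.nontrivial_iff_ne_bot.2 ?_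
      rw [Submodule.ne_bot_iff]
      exact ⟨c, ⟨hNc, hc⟩, hc0⟩
    have h5 := Nat.le_of_dvd h4 h3
    have h6 : LinearMap.ker (y - 1) ⊓ LinearMap.range (x - 1) = LinearMap.range (x - 1) :=
      Submodule.eq_of_le_of_finrank_le inf_le_right (by rw [hMdim]; exact h5)
    intro v hv
    rw [← h6] at hv
    exact sub_eq_zero.1 (show y v - v = 0 from hv.1)
  -- `y = 1` on `C`
  have hCnd : ∀ u ∈ LinearMap.ker (x - 1), (∀ v ∈ LinearMap.ker (x - 1), QuadraticMap.polar Q u v = 0) → u = 0 := by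
    intro u hu h
    apply hnd
    intro v
    obtain ⟨a, ha, b, hb, rfl⟩ := Submodule.mem_sup.1
      (show v ∈ LinearMap.ker (x - 1) ⊔ LinearMap.range (x - 1) by rw [hcompl.sup_eq_top]; trivial)
    obtain ⟨b', rfl⟩ := hb
    have hu' : x u = u := sub_eq_zero.1 (show x u - u = 0 from hu)
    have h1 : QuadraticMap.polar Q u (x b') = QuadraticMap.polar Q u b' := by
      conv_lhs => rw [← hu']
      exact polar_isom Q x X.2 u b'
    rw [QuadraticMap.polar_add_right, h a ha, zero_add, LinearMap.sub_apply, Module.End.one_apply,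
      QuadraticMap.polar_sub_right, h1, sub_self]
  have hyC1 := plane_unip h2 Q (C := LinearMap.ker (x - 1)) (by omega) hCnd hyC Y.2 hnil
  apply hy1
  apply LinearMap.ext
  intro v
  obtain ⟨a, ha, b, hb, rfl⟩ := Submodule.mem_sup.1
    (show v ∈ LinearMap.ker (x - 1) ⊔ LinearMap.range (x - 1) by rw [hcompl.sup_eq_top]; trivial)
  rw [map_add, hyC1 a ha, hyM1 b hb]
  rfl

/-- **`Zc` for `PΩ⁻_{2m}(q)` and `p = 2 m + 1`, `q` primitive modulo `p`** -/
theorem zc_minus {F : Type*} [Field F] [Fintype F] {m : ℕ} (hm : 4 ≤ m) {a b : F}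
    (hab : ∀ z₁ z₂ : F, z₁ ^ 2 + a * z₁ * z₂ + b * z₂ ^ 2 = 0 → z₁ = 0 ∧ z₂ = 0) {r p : ℕ} [hr : Fact r.Prime]
    [CharP F r] (hp : p.Prime) (hpm : p = 2 * m + 1) (hord : orderOf ((Nat.card F : ℕ) : ZMod p) = 2 * m) :
    Cfsg.Agent.H301.SY.Zc r p (POmega F (quadFormMinus (m - 1) F a b)) := by
  have hm4 : m ≠ 4 := by
    rintro rfl
    rw [hpm] at hp
    exact absurd hp (by norm_num)
  have hcard := Cfsg.Agent.S0294.result (F := F) rfl m hm a b hab
  have hdim : finrank F ((Fin (m - 1) ⊕ Fin (m - 1)) ⊕ Fin 2 → F) = 2 * m := by simp; omega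
  have hnd := quadMinus_nondegenerate (m := m - 1) (F := F) hab
  have hs := quadMinus_sing (F := F) (n := m - 1) (by omega) a b
  obtain ⟨w, hw, hw2, hwF, hk, hwm⟩ := exists_primitive_prime (F := F) (k := 2 * (m - 1)) (by omega) (by omega)
  have hwd : w ∣ Nat.card (POmega F (quadFormMinus (m - 1) F a b)) := by
    refine dvd_of_gcd_mul hw hw2 hcard (dvd_mul_of_dvd_right ?_ _)
    exact dvd_prod_factor hwm (i := m - 1) (by omega) le_rfl dvd_rfl
  have hfin : Finite (POmega F (quadFormMinus (m - 1) F a b)) := by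
    rw [← coe_quadMinus]
    exact Quotient.finite _
  have : Fact w.Prime := ⟨hw⟩
  have hne : ∀ g : POmega F (quadFormMinus (m - 1) F a b), orderOf g ≠ r * w := by
    rw [← coe_quadMinus]
    intro g
    by_cases hr2 : r = 2
    · have h2 : (2 : F) = 0 := by
        have h3 : ((r : ℕ) : F) = 0 := CharP.cast_eq_zero F r
        rw [hr2] at h3
        exact_mod_cast h3
      rw [hr2]
      exact gen_partial_even h2 (quadMinus (m - 1) F a b) hnd hdim hs hw hw2 hwF hm hk
        (Or.inr ⟨even_two_mul _, rfl⟩) g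
    · exact gen_partial_char (quadMinus (m - 1) F a b) hnd hdim hs hw hw2 hwF hr.out hr2 hm hk g
  obtain ⟨z, hz⟩ := exists_prime_orderOf_dvd_card' w hwd
  have hwr : w ≠ r := by
    rintro rfl
    exact hwF (CharP.cast_eq_zero F w)
  -- `w ≥ 2 m - 1`
  have hwge : 2 * (m - 1) ∣ w - 1 := by
    rw [← hk]
    have h1 : ((Nat.card F : ℕ) : ZMod w) ≠ 0 := by
      intro h
      have h2 := (ZMod.natCast_eq_zero_iff _ _).1 h
      have h3 : orderOf (((Nat.card F : ℕ) : ZMod w)) = 0 := by
        rw [h, orderOf_eq_zero_iff']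
        intro n hn h4
        rw [zero_pow (by omega)] at h4
        exact zero_ne_one h4
      omega
    exact orderOf_dvd_of_pow_eq_one (ZMod.pow_card_sub_one_eq_one h1)
  have hw1 := hw.two_le
  have hwge' : 2 * (m - 1) ≤ w - 1 := Nat.le_of_dvd (by omega) hwge
  intro s hsp hsd hsr
  refine ⟨z, ?_, ?_, ?_⟩
  · rintro rfl
    rw [orderOf_one] at hz
    omega
  · intro hd
    obtain ⟨u, hu⟩ := exists_prime_orderOf_dvd_card' r hd
    have hu' : orderOf (u : POmega F (quadFormMinus (m - 1) F a b)) = r := by rw [Subgroup.orderOf_coe]; exact hu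
    have hcom : Commute (u : POmega F (quadFormMinus (m - 1) F a b)) z :=
      Subgroup.mem_centralizer_singleton_iff.1 u.2
    apply hne ((u : POmega F (quadFormMinus (m - 1) F a b)) * z)
    rw [hcom.orderOf_mul_eq_mul_orderOf_of_coprime, hu', hz]
    rw [hu', hz]
    exact (Nat.coprime_primes hr.out hw).2 hwr.symm
  · rw [hz]
    rw [Nat.coprime_mul_iff_right]
    constructor
    · refine (Nat.coprime_primes hw hp).2 ?_
      rintro rfl
      rw [hk] at hord
      omega
    · refine (Nat.coprime_primes hw hsp).2 ?_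
      rintro rfl
      have h1 : p - 1 = 2 * m := by omega
      rw [h1] at hsd
      obtain ⟨c, hc⟩ := hsd
      have hc1 : c = 1 := by
        have hc0 : c ≠ 0 := by
          rintro rfl
          omega
        by_contra hne
        have h2 : w * 2 ≤ w * c := Nat.mul_le_mul_left _ (by omega)
        omega
      rw [hc1, mul_one] at hc
      have h3 : 2 ∣ w := ⟨m, by omega⟩
      exact hw2 ((Nat.prime_dvd_prime_iff_eq Nat.prime_two hw).1 h3).symm

end Cfsg.Agent.H491.SY
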