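import Mathlib
import Cfsg.Agent.H491.SY.MinusZc
import Cfsg.Agent.H62.SYOrth

/-!
# S3846: the row `PΩ⁻_{2m}(q)` (helper491)

`crow_minus_of` : the row, from the tool `M0` for `p > 2 m + 1`.
-/

set_option autoImplicit false
set_option linter.unusedSectionVars false

namespace Cfsg.Agent.H491.SY

open Subgroup Cfsg Cfsg.Agent.H459.Rad Cfsg.Agent.H459.Iface QuadraticMap Cfsg.Agent.H952.Rc Cfsg.Agent.H301.SY
open Cfsg.Agent.LieClassical.OrthCore Cfsg.Agent.LieClassical.OrthTrans Cfsg.Agent.LieClassical.OrthForms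
  Cfsg.Agent.ClassicalGeometry.OrthSemi Cfsg.Agent.ClassicalGeometry.OrthSemiForms Cfsg.Agent.H62.SYOrth

universe u v

/-- the order of `q` modulo `p` if an element of order `p` acts irreducibly -/
theorem ord_of_irr {F : Type u} {V : Type v} [Field F] [Fintype F] [AddCommGroup V] [Module F V]
    [FiniteDimensional F V] [Nontrivial V] {p : ℕ} [hp : Fact p.Prime] (hpF : (p : F) ≠ 0) {g : V ≃ₗ[F] V}
    (hgp : g ^ p = 1) (hg1 : g ≠ 1) (hs : ∀ W : Submodule F V, (∀ w ∈ W, g w ∈ W) → W = ⊥ ∨ W = ⊤) :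
    orderOf ((Nat.card F : ℕ) : ZMod p) = Module.finrank F V := by
  have hpow : ∀ (n : ℕ) (v : V), (g.toLinearMap ^ n) v = (g ^ n) v := by
    intro n v
    induction n with
    | zero => rfl
    | succ n ih => rw [pow_succ', pow_succ', Module.End.mul_apply, ih]; rfl
  have h1 : g.toLinearMap ^ p = 1 := by
    ext v
    rw [hpow, hgp]
    rfl
  have hfix : ∀ v, g.toLinearMap v = v → v = 0 := by
    -- the fixed space is invariant and not everything
    have h2 := hs (LinearMap.ker (g.toLinearMap - 1)) (fun w hw => by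
      have hw' : g w = w := sub_eq_zero.1 hw
      show g (g w) - g w = 0
      rw [hw', hw', sub_self])
    rcases h2 with h2 | h2
    · intro v hv
      have h3 : v ∈ LinearMap.ker (g.toLinearMap - 1) := by
        rw [LinearMap.mem_ker, LinearMap.sub_apply, Module.End.one_apply, hv, sub_self]
      rwa [h2, Submodule.mem_bot] at h3
    · exfalso
      apply hg1
      apply LinearEquiv.ext
      intro v
      have h3 : v ∈ LinearMap.ker (g.toLinearMap - 1) := by rw [h2]; exact Submodule.mem_top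
      exact sub_eq_zero.1 h3
  obtain ⟨U, hU, hd⟩ := Cfsg.Agent.H150.exists_invariant hp.out hpF g.toLinearMap h1 hfix
  have hpos := Cfsg.Agent.H150.orderOf_card_pos (F := F) hp.out hpF
  rcases hs U hU with h2 | h2
  · rw [h2, finrank_bot] at hd
    omega
  · rw [h2, finrank_top] at hd
    exact hd.symm

/-- the tool for large `p`, for the group `E Q / Z` -/
def MTool (F : Type) [Field F] {V : Type} [AddCommGroup V] [Module F V] (Q : QuadraticForm F V) (r p : ℕ) : Prop :=
  ∀ x : ↥(E Q) ⧸ center ↥(E Q), orderOf x = p → (∀ P : Sylow p (↥(E Q) ⧸ center ↥(E Q)), IsCyclic (P : Subgroup (↥(E Q) ⧸ center ↥(E Q)))) →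
    ¬ FixR r (MulAut.conj x) → Module.finrank F V + 1 < p → M0 x

theorem crow_minus_of {F : Type} [Field F] [Fintype F] {m : ℕ} (hm : 4 ≤ m) {a b : F}
    (hab : ∀ z₁ z₂ : F, z₁ ^ 2 + a * z₁ * z₂ + b * z₂ ^ 2 = 0 → z₁ = 0 ∧ z₂ = 0) {r p : ℕ} [hr : Fact r.Prime]
    [hpp : Fact p.Prime] [CharP F r] (hp : 5 ≤ p) (hpr : p ≠ r)
    (hM : MTool F (minusForm (m - 1) F a b) r p) : CRow r p (POmega F (quadFormMinus (m - 1) F a b)) := by
  have hpF := Cfsg.Agent.BpCl.cast_ne_zero_of_char (F := F) (Fact.out : p.Prime) hpr.symm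
  have hfin : Finite (POmega F (quadFormMinus (m - 1) F a b)) := by
    rw [← coe_minusForm]
    exact Quotient.finite _
  have hzc := @zc_minus F _ _ m hm a b hab r p hr _ hpp.out
  rw [← coe_minusForm] at hfin hzc ⊢
  have hd : Module.finrank F ((Fin (m - 1) ⊕ Fin (m - 1)) ⊕ Fin 2 → F) = 2 * m := by
    rw [Module.finrank_fintype_fun_eq_card, Fintype.card_sum, Fintype.card_sum, Fintype.card_fin, Fintype.card_fin]
    omega
  have hQ := nondeg_minusForm (m - 1) F a b hab
  have hG := Cfsg.Agent.LieClassical.OrthFinite.good_of_finite hQ (by omega)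
  have hfin' : Finite ↥(E (minusForm (m - 1) F a b)) := Cfsg.Agent.BpCl.finite_subgroup _
  have hnt : Nontrivial ((Fin (m - 1) ⊕ Fin (m - 1)) ⊕ Fin 2 → F) :=
    Module.nontrivial_of_finrank_pos (R := F) (by omega)
  refine CRow.congr (pomegaEquiv hG) ?_
  intro x hx hRC hP
  by_cases hfr : FixR r (MulAut.conj x)
  · exact Or.inl hfr
  rcases row_E (r := r) hp hpF hQ (by omega) hx hRC with h | ⟨g, -, hgp, hg1, hs⟩
  · exact absurd h hfr
  have hord := ord_of_irr hpF hgp hg1 hs
  rw [hd] at hord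
  have hqp : ((Nat.card F : ℕ) : ZMod p) ≠ 0 := by
    intro h
    rw [h, orderOf_eq_zero_iff'.2 (fun n hn h4 => by
      rw [zero_pow (by omega)] at h4
      exact zero_ne_one h4)] at hord
    omega
  have hdvd : 2 * m ∣ p - 1 := by
    rw [← hord]
    exact orderOf_dvd_of_pow_eq_one (ZMod.pow_card_sub_one_eq_one hqp)
  have hle := Nat.le_of_dvd (by omega) hdvd
  rcases Nat.lt_or_ge (2 * m + 1) p with h1 | h1
  · right; left
    exact hM x hx hP hfr (by rw [hd]; exact h1)
  · right; right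
    exact (hzc (by omega) hord).congr (pomegaEquiv hG).symm

end Cfsg.Agent.H491.SY
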