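import Mathlib
import Cfsg.Agent.H491.SY.CrowMinus
import Cfsg.Agent.H301.SY.Rep

/-!
# S3846: the row `PΩ⁻_{2m}(q)` (helper491)

`crow_omega_minus` : the row.
-/

set_option autoImplicit false
set_option linter.unusedSectionVars false

namespace Cfsg.Agent.H491.SY

open Subgroup Cfsg Cfsg.Agent.H459.Rad Cfsg.Agent.H459.Iface QuadraticMap Cfsg.Agent.H952.Rc Cfsg.Agent.H301.SY
open Cfsg.Agent.LieClassical.OrthCore Cfsg.Agent.LieClassical.OrthTrans Cfsg.Agent.LieClassical.OrthForms
  Cfsg.Agent.ClassicalGeometry.OrthSemi Cfsg.Agent.ClassicalGeometry.OrthSemiForms Cfsg.Agent.H62.SYOrth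

/-- the natural representation of `E Q` -/
noncomputable def natRep {F V : Type} [Field F] [AddCommGroup V] [Module F V] (Q : QuadraticForm F V) :
    Representation F ↥(E Q) V :=
  ((LinearEquiv.automorphismGroup.toLinearMapMonoidHom : (V ≃ₗ[F] V) →* (V →ₗ[F] V))).comp (E Q).subtype

theorem natRep_injective {F V : Type} [Field F] [AddCommGroup V] [Module F V] (Q : QuadraticForm F V) :
    Function.Injective (natRep Q) := by
  intro g h hgh
  apply Subtype.ext
  apply LinearEquiv.ext
  intro v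
  exact LinearMap.congr_fun hgh v

theorem mTool (hh : Cfsg.Agent.H301.SY.HH) {F : Type} [Field F] [Fintype F] {V : Type} [AddCommGroup V] [Module F V]
    [FiniteDimensional F V] (Q : QuadraticForm F V) {r p : ℕ} [CharP F r] [Fact r.Prime] [Fact p.Prime] (hpr : p ≠ r) :
    MTool F Q r p := by
  have hfin : Finite V := Module.finite_of_finite F
  have hfin' : Finite ↥(E Q) := Cfsg.Agent.BpCl.finite_subgroup _
  intro x hx hcyc hF hd
  exact m0_of_rep hh (QuotientGroup.mk' (center ↥(E Q))) (QuotientGroup.mk'_surjective _)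
    (by rw [QuotientGroup.ker_mk']) (natRep Q) (natRep_injective Q) hpr hd hcyc hx hF

/-- **the row `PΩ⁻_{2m}(q)`** -/
theorem crow_omega_minus (hh : Cfsg.Agent.H301.SY.HH) {K : Type*} [Group K] [Finite K] [IsSimpleGroup K] {r p : ℕ}
    [Fact r.Prime] [Fact p.Prime] (h : Cfsg.IsPOmegaMinusChar r K) (hp : 5 ≤ p) (hpr : p ≠ r) :
    Cfsg.Agent.H301.SY.CRow r p K := by
  obtain ⟨F, _, _, _, m, a, b, hm, hab, ⟨e⟩⟩ := h
  have hfin : Finite (POmega F (quadFormMinus (m - 1) F a b)) := Finite.of_equiv _ e.toEquiv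
  exact (crow_minus_of hm hab hp hpr (mTool hh _ hpr)).congr e

end Cfsg.Agent.H491.SY
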